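import Groth.Agent.KoszProjLib.Main

/-!
# Čech cochains of all twists as cochains of the localised family
-/

set_option autoImplicit false
set_option backward.isDefEq.respectTransparency false
set_option backward.isDefEq.respectTransparency.types false
set_option maxHeartbeats 800000
universe u

open CategoryTheory AlgebraicGeometry TopologicalSpace Opposite KoszLib DirectSum

noncomputable section

namespace KoszProjLib

variable {R A : Type u} [CommRing R] [CommRing A] [Algebra R A] {𝒜 : ℕ → Submodule R A} [GradedAlgebra 𝒜]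
  {M : Type u} [AddCommGroup M] [Module R M] [Module A M]
  {r : ℕ} {g : Fin r → A} {dg : Fin r → ℕ} (hd : ∀ a, 0 < dg a) (hg : ∀ a, g a ∈ 𝒜 (dg a))
  (ℳ : ℕ → Submodule R M) [DirectSum.Decomposition ℳ] [SetLike.GradedSMul 𝒜 ℳ]

variable (𝒜 g) in
/-- The Čech complex of a twist. -/
abbrev cxn (n : ℤ) : CochainComplex AddCommGrpCat.{u} ℕ :=
  CechLib.cx (U 𝒜 g) (GrTilde.tilde 𝒜 ℳ n).presheaf

/-- A component of a cochain. -/
def evJ (n : ℤ) (q : ℕ) (J : Fin (q + 1) → Fin r) :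
    ((cxn 𝒜 g ℳ n).X q : Type u) →+ Γ(GrTilde.tilde 𝒜 ℳ n, capU 𝒜 g J) :=
  CechLib.ev (U 𝒜 g) (GrTilde.tilde 𝒜 ℳ n).presheaf q (ULift.up ∘ J)

/-- Cochains of a twist in the cochains of the family. -/
def toCQ (n : ℤ) (q : ℕ) : ((cxn 𝒜 g ℳ n).X q : Type u) →+ (locSys M g).CQ (q + 1) :=
  AddMonoidHom.pi fun J => (toLoc hd hg ℳ n J).comp (evJ ℳ n q J)

theorem toCQ_apply (n : ℤ) (q : ℕ) (c : (cxn 𝒜 g ℳ n).X q) (J : Fin (q + 1) → Fin r) :
    toCQ hd hg ℳ n q c J = toLoc hd hg ℳ n J (evJ ℳ n q J c) := rfl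

theorem toCQ_d (n : ℤ) (q : ℕ) (c : (cxn 𝒜 g ℳ n).X q) :
    toCQ hd hg ℳ n (q + 1) (((cxn 𝒜 g ℳ n).d q (q + 1)).hom c) =
      (locSys M g).dQ (q + 1) (toCQ hd hg ℳ n q c) := by
  funext J
  rw [toCQ_apply, LimSys.dQ_apply]
  have h : evJ ℳ n (q + 1) J (((cxn 𝒜 g ℳ n).d q (q + 1)).hom c) =
      ∑ k : Fin (q + 2), ((-1 : ℤ) ^ (k : ℕ)) •
        CechLib.rs (GrTilde.tilde 𝒜 ℳ n).presheaf
          (CechLib.cap_comp_le (U 𝒜 g) (ULift.up ∘ J) k.succAbove) (evJ ℳ n q (J ∘ k.succAbove) c) :=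
    (congr_fun (CechLib.ev_d (U 𝒜 g) (GrTilde.tilde 𝒜 ℳ n).presheaf q c) (ULift.up ∘ J)).trans
      (CechLib.dd_apply _ _ _ _ _)
  rw [h, map_sum]
  refine Finset.sum_congr rfl fun k _ => ?_
  rw [map_zsmul, toLoc_res hd hg ℳ n J k, ← Int.cast_smul_eq_zsmul A, Int.cast_pow, Int.cast_neg,
    Int.cast_one]
  rfl

include hd hg in
theorem toCQ_bijective (q : ℕ) :
    Function.Bijective (DirectSum.toAddMonoid fun n => toCQ hd hg ℳ n q) := by
  classical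
  have key : ∀ (x : ⨁ n, ((cxn 𝒜 g ℳ n).X q : Type u)) (J : Fin (q + 1) → Fin r),
      DirectSum.toAddMonoid (fun n => toCQ hd hg ℳ n q) x J =
        DirectSum.toAddMonoid (fun n => toLoc hd hg ℳ n J) (DirectSum.map (fun n => evJ ℳ n q J) x) := by
    intro x J
    induction x using DirectSum.induction_on with
    | zero => simp
    | of n c => simp [toCQ_apply]
    | add x y hx hy => simp only [map_add, Pi.add_apply, hx, hy]
  constructor
  · rw [injective_iff_map_eq_zero]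
    intro x hx
    ext n
    refine (CechLib.ev_bijective (U 𝒜 g) (GrTilde.tilde 𝒜 ℳ n).presheaf q).1 (funext fun J => ?_)
    have h1 : DirectSum.map (fun n => evJ ℳ n q (ULift.down ∘ J)) x = 0 :=
      (toLoc_bijective hd hg ℳ (ULift.down ∘ J)).1 (by rw [← key, hx, map_zero]; rfl)
    have h2 := congrArg (fun z => z n) h1
    rw [DirectSum.map_apply] at h2
    exact h2.trans (map_zero (CechLib.ev (U 𝒜 g) (GrTilde.tilde 𝒜 ℳ n).presheaf q J)).symm
  · intro y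
    have hone : ∀ J₀ : Fin (q + 1) → Fin r, ∀ z, ∃ x : ⨁ n, ((cxn 𝒜 g ℳ n).X q : Type u),
        DirectSum.toAddMonoid (fun n => toCQ hd hg ℳ n q) x = Pi.single J₀ z := by
      intro J₀ z
      obtain ⟨v, rfl⟩ := (toLoc_bijective hd hg ℳ J₀).2 z
      induction v using DirectSum.induction_on with
      | zero => exact ⟨0, by simp⟩
      | of n s =>
        refine ⟨DirectSum.of (fun n => ((cxn 𝒜 g ℳ n).X q : Type u)) n
          ((CechLib.cochainEquiv (U 𝒜 g) (GrTilde.tilde 𝒜 ℳ n).presheaf q).symm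
            (Pi.single (ULift.up ∘ J₀) s)), ?_⟩
        funext J
        rw [DirectSum.toAddMonoid_of, DirectSum.toAddMonoid_of, toCQ_apply]
        have he : evJ ℳ n q J ((CechLib.cochainEquiv (U 𝒜 g) (GrTilde.tilde 𝒜 ℳ n).presheaf q).symm
            (Pi.single (ULift.up ∘ J₀) s)) =
            (Pi.single (ULift.up ∘ J₀) s : CechLib.Cochain (U 𝒜 g) (GrTilde.tilde 𝒜 ℳ n).presheaf q)
              (ULift.up ∘ J) :=
          congr_fun ((CechLib.cochainEquiv (U 𝒜 g) (GrTilde.tilde 𝒜 ℳ n).presheaf q).apply_symm_apply _) _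
        rw [he]
        by_cases hJ : J = J₀
        · subst hJ
          rw [Pi.single_eq_same, Pi.single_eq_same]
        · have hne : (ULift.up ∘ J : Fin (q + 1) → ULift.{u} (Fin r)) ≠ ULift.up ∘ J₀ := fun e =>
            hJ (funext fun a => ULift.up_injective (congr_fun e a))
          rw [Pi.single_eq_of_ne hJ, Pi.single_eq_of_ne hne, map_zero]
      | add v w hv hw =>
        obtain ⟨xv, hv⟩ := hv
        obtain ⟨xw, hw⟩ := hw
        exact ⟨xv + xw, by rw [map_add, map_add, hv, hw, Pi.single_add]⟩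
    choose x hx using hone
    refine ⟨∑ J₀ : Fin (q + 1) → Fin r, x J₀ (y J₀), ?_⟩
    rw [map_sum, Finset.sum_congr rfl fun J₀ _ => hx J₀ (y J₀)]
    exact Finset.univ_sum_single y

omit [DirectSum.Decomposition ℳ] in
theorem capU_affine {q : ℕ} (hd : ∀ a, 0 < dg a) (hg : ∀ a, g a ∈ 𝒜 (dg a))
    (J : Fin (q + 1) → ULift.{u} (Fin r)) : IsAffineOpen (CechLib.cap (U 𝒜 g) J) := by
  have h := Proj.isAffineOpen_basicOpen 𝒜 (fT g (ULift.down ∘ J)) (fT_mem (𝒜 := 𝒜) hg _)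
    (dT_pos hd (ULift.down ∘ J))
  rw [← capU_eq (ULift.down ∘ J)] at h
  exact h

include hd hg in
theorem nonempty_equiv (p : ℕ) (hp : 1 ≤ p) :
    Nonempty (DirectSum ℤ (fun n : ℤ => Coh.HHon (Proj 𝒜) (GrTilde.tilde 𝒜 ℳ n)
        (⨆ i : Fin r, Proj.basicOpen 𝒜 (g i)) p) ≃+ (locSys M g).HQ (p + 1)) := by
  classical
  obtain ⟨q, rfl⟩ := Nat.exists_eq_add_of_le' hp
  have hU : ⨆ i, U 𝒜 g i = ⨆ i : Fin r, Proj.basicOpen 𝒜 (g i) :=
    le_antisymm (iSup_le fun i => le_iSup_of_le i.down le_rfl)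
      (iSup_le fun i => le_iSup_of_le ⟨i⟩ le_rfl)
  have hcoh : ∀ n : ℤ, Nonempty (Coh.HHon (Proj 𝒜) (GrTilde.tilde 𝒜 ℳ n)
      (⨆ i : Fin r, Proj.basicOpen 𝒜 (g i)) (q + 1) ≃+
        ((cxn 𝒜 g ℳ n).homology (q + 1) : Type u)) := by
    intro n
    haveI := GrTildeLib.isQCoh_tilde (𝒜 := 𝒜) (ℳ := ℳ) n
    have hacyc : CechLib.Acyc (U 𝒜 g) ((QCohLib.toAbF (Proj 𝒜)).obj (GrTilde.tilde 𝒜 ℳ n)) :=
      fun m J i => QCohLib.subsingleton_HU_affine (GrTilde.tilde 𝒜 ℳ n) i (capU_affine hd hg J)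
    obtain ⟨e1⟩ := CechLib.nonempty_homology_equiv (U 𝒜 g) (q + 1)
      ((QCohLib.toAbF (Proj 𝒜)).obj (GrTilde.tilde 𝒜 ℳ n)) hacyc
    obtain ⟨e3⟩ := QCohLib.nonempty_HU_restrict
      (⨆ i : Fin r, Proj.basicOpen 𝒜 (g i)).ι (GrTilde.tilde 𝒜 ℳ n) (q + 1) ⊤
    rw [Scheme.Opens.ι_image_top] at e3
    rw [hU] at e1
    exact ⟨((QCohLib.hEquiv _ (q + 1)).trans e3).trans e1.symm⟩
  choose π hπs hπ using fun n => exists_cycles_hom (cxn 𝒜 g ℳ n) q
  let g' : (locSys M g).CQ (q + 2) →+ (locSys M g).CQ (q + 3) := ((locSys M g).dQ (q + 2)).toAddMonoidHom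
  let π' : g'.ker →+ (locSys M g).HQ (q + 2) :=
    AddMonoidHom.mk' (fun z => Submodule.Quotient.mk ⟨z.1, z.2⟩) fun _ _ => rfl
  obtain ⟨e⟩ := nonempty_directSum_homology_equiv
    (fun n => ((cxn 𝒜 g ℳ n).d q (q + 1)).hom) (fun n => ((cxn 𝒜 g ℳ n).d (q + 1) (q + 2)).hom)
    ((locSys M g).dQ (q + 1)).toAddMonoidHom g'
    (fun n => toCQ hd hg ℳ n q) (fun n => toCQ hd hg ℳ n (q + 1)) (fun n => toCQ hd hg ℳ n (q + 2))
    (fun n x => toCQ_d hd hg ℳ n q x) (fun n x => toCQ_d hd hg ℳ n (q + 1) x)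
    (toCQ_bijective hd hg ℳ q).2 (toCQ_bijective hd hg ℳ (q + 1)) (toCQ_bijective hd hg ℳ (q + 2)).1
    π hπs hπ π'
    (fun w => by
      obtain ⟨⟨z, hz⟩, rfl⟩ := Submodule.Quotient.mk_surjective _ w
      exact ⟨⟨z, hz⟩, rfl⟩)
    (fun z => (Submodule.Quotient.mk_eq_zero _).trans Iff.rfl)
  exact ⟨(DirectSum.congrAddEquiv fun n => (hcoh n).some).trans e⟩

end KoszProjLib

end
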