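import Mathlib.Algebra.DirectSum.Module
import Mathlib.Algebra.Homology.ShortComplex.Ab
import Mathlib.Algebra.Homology.HomologicalComplexAbelian
import Mathlib.Algebra.Homology.ShortComplex.HomologicalComplex

/-!
# Homology of a complex that decomposes as a direct sum
-/

set_option autoImplicit false
set_option backward.isDefEq.respectTransparency false
universe u

open CategoryTheory DirectSum

namespace KoszProjLib

section Sum

variable {ι : Type} [DecidableEq ι] {A B C H : ι → Type u}
  [∀ i, AddCommGroup (A i)] [∀ i, AddCommGroup (B i)] [∀ i, AddCommGroup (C i)] [∀ i, AddCommGroup (H i)]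
  {A' B' C' H' : Type u} [AddCommGroup A'] [AddCommGroup B'] [AddCommGroup C'] [AddCommGroup H']

/-- A middle homology commutes with a decomposition into a direct sum. -/
theorem nonempty_directSum_homology_equiv (f : ∀ i, A i →+ B i) (g : ∀ i, B i →+ C i)
    (f' : A' →+ B') (g' : B' →+ C') (a : ∀ i, A i →+ A') (b : ∀ i, B i →+ B') (c : ∀ i, C i →+ C')
    (hab : ∀ i x, b i (f i x) = f' (a i x)) (hbc : ∀ i x, c i (g i x) = g' (b i x))
    (ha : Function.Surjective (DirectSum.toAddMonoid a))
    (hb : Function.Bijective (DirectSum.toAddMonoid b))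
    (hc : Function.Injective (DirectSum.toAddMonoid c))
    (π : ∀ i, (g i).ker →+ H i) (hπs : ∀ i, Function.Surjective (π i))
    (hπ : ∀ i z, π i z = 0 ↔ ∃ x, f i x = z.1)
    (π' : g'.ker →+ H') (hπ's : Function.Surjective π')
    (hπ' : ∀ z, π' z = 0 ↔ ∃ x, f' x = z.1) :
    Nonempty ((⨁ i, H i) ≃+ H') := by
  classical
  have hbf : ∀ v, DirectSum.toAddMonoid b (DirectSum.map f v) = f' (DirectSum.toAddMonoid a v) := by
    intro v
    induction v using DirectSum.induction_on with
    | zero => simp
    | of i x => simp [hab]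
    | add x y hx hy => simp only [map_add, hx, hy]
  have hcg : ∀ v, DirectSum.toAddMonoid c (DirectSum.map g v) = g' (DirectSum.toAddMonoid b v) := by
    intro v
    induction v using DirectSum.induction_on with
    | zero => simp
    | of i x => simp [hbc]
    | add x y hx hy => simp only [map_add, hx, hy]
  let sub : (⨁ i, (g i).ker) →+ ⨁ i, B i := DirectSum.map fun i => (g i).ker.subtype
  have hker : ∀ v : ⨁ i, (g i).ker, g' (DirectSum.toAddMonoid b (sub v)) = 0 := by
    intro v
    rw [← hcg]
    induction v using DirectSum.induction_on with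
    | zero => simp
    | of i x => simp [sub, (AddMonoidHom.mem_ker).mp x.2]
    | add x y hx hy => simp only [map_add, hx, hy, add_zero]
  let ω : (⨁ i, (g i).ker) →+ H' :=
    π'.comp (((DirectSum.toAddMonoid b).comp sub).codRestrict g'.ker fun v => AddMonoidHom.mem_ker.mpr (hker v))
  let pr : (⨁ i, (g i).ker) →+ ⨁ i, H i := DirectSum.map π
  have hprs : Function.Surjective pr := fun z => by
    induction z using DirectSum.induction_on with
    | zero => exact ⟨0, map_zero _⟩
    | of i x =>
      obtain ⟨y, rfl⟩ := hπs i x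
      exact ⟨DirectSum.of (fun i => (g i).ker) i y, by simp [pr]⟩
    | add x y hx hy =>
      obtain ⟨x', rfl⟩ := hx
      obtain ⟨y', rfl⟩ := hy
      exact ⟨x' + y', map_add _ _ _⟩
  have hωs : Function.Surjective ω := fun w => by
    obtain ⟨⟨z, hz⟩, rfl⟩ := hπ's w
    obtain ⟨x, rfl⟩ := hb.2 z
    have hx : DirectSum.map g x = 0 := hc (by
      rw [hcg, AddMonoidHom.mem_ker.mp hz, map_zero])
    let y : ⨁ i, (g i).ker := DirectSum.mk (fun i => (g i).ker) x.support fun i =>
      ⟨x i.1, AddMonoidHom.mem_ker.mpr (by
        have h1 := congrArg (fun v => v i.1) hx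
        simpa [DirectSum.map_apply] using h1)⟩
    have hy : sub y = x := by
      ext i
      rw [DirectSum.map_apply]
      change ((y i : (g i).ker) : B i) = x i
      by_cases hi : i ∈ x.support
      · rw [show y i = _ from DirectSum.mk_apply_of_mem hi]
      · rw [show y i = _ from DirectSum.mk_apply_of_notMem hi, DFinsupp.notMem_support_iff.mp hi]
        rfl
    exact ⟨y, congrArg π' (Subtype.ext (congrArg (DirectSum.toAddMonoid b) hy))⟩
  have hiff : ∀ v, ω v = 0 ↔ pr v = 0 := by
    intro v
    constructor
    · intro h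
      obtain ⟨w, hw⟩ := (hπ' _).mp h
      obtain ⟨u, rfl⟩ := ha w
      have h2 : DirectSum.map f u = sub v := hb.1 (by rw [hbf]; exact hw)
      ext i
      rw [DirectSum.map_apply]
      refine (hπ i (v i)).mpr ⟨u i, ?_⟩
      have h3 := congrArg (fun z => z i) h2
      simpa [sub, DirectSum.map_apply] using h3
    · intro h
      refine (hπ' _).mpr ?_
      have hv : ∀ i, ∃ x, f i x = (v i).1 := fun i => (hπ i (v i)).mp (by
        have h1 := congrArg (fun z => z i) h
        simpa [pr, DirectSum.map_apply] using h1)
      choose x hx using hv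
      refine ⟨DirectSum.toAddMonoid a (DirectSum.mk A v.support fun i => x i.1), ?_⟩
      rw [← hbf]
      refine congrArg (DirectSum.toAddMonoid b) ?_
      ext i
      rw [DirectSum.map_apply, DirectSum.map_apply]
      by_cases hi : i ∈ v.support
      · rw [DirectSum.mk_apply_of_mem hi]
        exact hx i
      · rw [DirectSum.mk_apply_of_notMem hi, DFinsupp.notMem_support_iff.mp hi]
        simp
  have hker' : pr.ker = ω.ker := by
    ext v
    exact (hiff v).symm
  exact ⟨((QuotientAddGroup.quotientKerEquivOfSurjective pr hprs).symm.trans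
    (QuotientAddGroup.quotientAddEquivOfEq hker')).trans
      (QuotientAddGroup.quotientKerEquivOfSurjective ω hωs)⟩

end Sum

/-- Homology of a complex of abelian groups in a positive degree as cycles modulo boundaries. -/
theorem exists_cycles_hom (K : CochainComplex AddCommGrpCat.{u} ℕ) (q : ℕ) :
    ∃ π : (K.d (q + 1) (q + 2)).hom.ker →+ (K.homology (q + 1) : Type u), Function.Surjective π ∧
      ∀ z, π z = 0 ↔ ∃ x, (K.d q (q + 1)).hom x = z.1 := by
  let e := ((K.homologyIsoSc' q (q + 1) (q + 2) (by simp) (by simp)) ≪≫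
    ShortComplex.abHomologyIso _).addCommGroupIsoToAddEquiv
  refine ⟨e.symm.toAddMonoidHom.comp (QuotientAddGroup.mk' _), e.symm.surjective.comp
    (QuotientAddGroup.mk'_surjective _), fun z => ?_⟩
  refine (e.symm.map_eq_zero_iff).trans ((QuotientAddGroup.eq_zero_iff z).trans ?_)
  constructor
  · rintro ⟨x, rfl⟩
    exact ⟨x, rfl⟩
  · rintro ⟨x, hx⟩
    exact ⟨x, Subtype.ext hx⟩

end KoszProjLib
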