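import Groth.Agent.KoszProjLib.DirectSumHom
import Groth.Agent.GrTildeLib.Chart
import Groth.Agent.KoszLib.Cech
import Mathlib.AlgebraicGeometry.ProjectiveSpectrum.Basic

/-!
# Cohomology of the twists on a union of standard opens of `Proj` as a colimit of Koszul cohomology
-/

set_option autoImplicit false
set_option backward.isDefEq.respectTransparency false
set_option backward.isDefEq.respectTransparency.types false
set_option maxHeartbeats 800000
universe u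

open CategoryTheory AlgebraicGeometry TopologicalSpace Opposite KoszLib DirectSum

noncomputable section

namespace KoszProjLib

variable {R A : Type u} [CommRing R] [CommRing A] [Algebra R A] {𝒜 : ℕ → Submodule R A} [GradedAlgebra 𝒜]
  {M : Type u} [AddCommGroup M] [Module R M] [Module A M]
  {r : ℕ} (g : Fin r → A)

/-- The product of the elements of a tuple. -/
abbrev fT {p : ℕ} (J : Fin p → Fin r) : A := ∏ a ∈ img J, g a

variable (M) in
/-- The localisation at the product of the elements of a tuple. -/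
abbrev Q {p : ℕ} (J : Fin p → Fin r) : Type u := LocalizedModule (Submonoid.powers (fT g J)) M

/-- A power of the product. -/
abbrev pw {p : ℕ} (J : Fin p → Fin r) (k : ℕ) : Submonoid.powers (fT g J) := ⟨fT g J ^ k, k, rfl⟩

/-- `m ↦ m / f_J ^ k`. -/
def ψQ (k : ℕ) {p : ℕ} (J : Fin p → Fin r) : M →ₗ[A] Q M g J where
  toFun m := LocalizedModule.mk m (pw g J k)
  map_add' m m' := by
    rw [LocalizedModule.mk_add_mk, ← smul_add, LocalizedModule.mk_cancel_common_left]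
  map_smul' a m := by rw [RingHom.id_apply, LocalizedModule.smul'_mk]

theorem ψQ_apply (k : ℕ) {p : ℕ} (J : Fin p → Fin r) (m : M) :
    ψQ g k J m = LocalizedModule.mk m (pw g J k) := rfl

theorem ψQ_surj {p : ℕ} (J : Fin p → Fin r) (y : Q M g J) : ∃ k m, ψQ g k J m = y := by
  induction y using LocalizedModule.induction_on with
  | h m s =>
    obtain ⟨k, hk⟩ := s.2
    exact ⟨k, m, congrArg (LocalizedModule.mk m) (Subtype.ext hk)⟩

theorem ψQ_eq_zero {p : ℕ} (J : Fin p → Fin r) (k : ℕ) (m : M) (h : ψQ g k J m = 0) :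
    ∃ N, fT g J ^ N • m = 0 := by
  rw [ψQ_apply, ← LocalizedModule.zero_mk (pw g J k), LocalizedModule.mk_eq] at h
  obtain ⟨⟨v, N, rfl⟩, hv⟩ := h
  refine ⟨N + k, ?_⟩
  simp only [Submonoid.smul_def, smul_zero] at hv
  rw [pow_add, mul_smul]
  exact hv

theorem ψQ_trans {p : ℕ} (J : Fin p → Fin r) (n k : ℕ) (m : M) :
    ψQ g (n + k) J (fT g J ^ k • m) = ψQ g n J m := by
  rw [ψQ_apply, ψQ_apply, LocalizedModule.mk_eq]
  refine ⟨1, ?_⟩
  simp only [one_smul, Submonoid.smul_def, smul_smul]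
  congr 1
  ring

theorem fT_eq_W_mul {p : ℕ} (J : Fin (p + 1) → Fin r) (k : Fin (p + 1)) :
    fT g J = W g (img J) (img (J ∘ k.succAbove)) * fT g (J ∘ k.succAbove) :=
  (Finset.prod_sdiff (img_comp_subset J _)).symm

theorem isUnit_face {p : ℕ} (J : Fin (p + 1) → Fin r) (k : Fin (p + 1))
    (s : Submonoid.powers (fT g (J ∘ k.succAbove))) :
    IsUnit (algebraMap A (Module.End A (Q M g J)) s) := by
  obtain ⟨_, N, rfl⟩ := s
  have h := IsLocalizedModule.map_units (LocalizedModule.mkLinearMap (Submonoid.powers (fT g J)) M) (pw g J N)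
  change IsUnit (algebraMap A (Module.End A (Q M g J)) (fT g J ^ N)) at h
  have e : algebraMap A (Module.End A (Q M g J)) (fT g J ^ N) =
      algebraMap A (Module.End A (Q M g J)) (W g (img J) (img (J ∘ k.succAbove)) ^ N) *
        algebraMap A (Module.End A (Q M g J)) (fT g (J ∘ k.succAbove) ^ N) := by
    rw [← map_mul, ← mul_pow, ← fT_eq_W_mul]
  rw [e] at h
  exact (((Commute.all _ _).map (algebraMap A (Module.End A (Q M g J)))).isUnit_mul_iff.mp h).2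

/-- Restriction from a face. -/
def rsQ {p : ℕ} (J : Fin (p + 1) → Fin r) (k : Fin (p + 1)) :
    Q M g (J ∘ k.succAbove) →ₗ[A] Q M g J :=
  LocalizedModule.lift _ (ψQ g 0 J) (isUnit_face g J k)

theorem rsQ_ψQ {p : ℕ} (J : Fin (p + 1) → Fin r) (k : Fin (p + 1)) (n : ℕ) (m : M) :
    rsQ g J k (ψQ g n (J ∘ k.succAbove) m) =
      ψQ g n J (W g (img J) (img (J ∘ k.succAbove)) ^ n • m) := by
  rw [rsQ, ψQ_apply, LocalizedModule.lift_mk, Module.End.algebraMap_isUnit_inv_apply_eq_iff,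
    ← map_smul, smul_smul]
  have h := ψQ_trans g J 0 n m
  rw [zero_add] at h
  rw [← h]
  congr 2
  rw [fT_eq_W_mul g J k, mul_pow, mul_comm]

variable (M) in
/-- The family of localisations of a module. -/
def locSys : LimSys g M (fun _ J => Q M g J) where
  ψ n _ J := ψQ g n J
  rs J k := rsQ g J k
  surj J y := ψQ_surj g J y
  zero J n x h := ψQ_eq_zero g J n x h
  trans J n k x := ψQ_trans g J n k x
  res J k n x := rsQ_ψQ g J k n x

variable (dg : Fin r → ℕ)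

/-- The degree of the product of a tuple. -/
abbrev dT {p : ℕ} (J : Fin p → Fin r) : ℕ := ∑ a ∈ img J, dg a

variable {g dg} (hd : ∀ a, 0 < dg a) (hg : ∀ a, g a ∈ 𝒜 (dg a))

include hg in
theorem fT_mem {p : ℕ} (J : Fin p → Fin r) : fT g J ∈ 𝒜 (dT dg J) :=
  SetLike.prod_mem_graded 𝒜 _ _ fun a _ => hg a

include hd in
theorem dT_pos {p : ℕ} (J : Fin (p + 1) → Fin r) : 0 < dT dg J :=
  lt_of_lt_of_le (hd (J 0))
    (Finset.single_le_sum (f := dg) (fun _ _ => Nat.zero_le _) (mem_img.mpr ⟨0, rfl⟩))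

variable (𝒜 g) in
/-- The opens `D₊(f_i)`. -/
abbrev U : ULift.{u} (Fin r) → (Proj 𝒜).Opens := fun i => Proj.basicOpen 𝒜 (g i.down)

variable (𝒜 g) in
/-- The intersection of the opens of a tuple. -/
abbrev capU {p : ℕ} (J : Fin p → Fin r) : (Proj 𝒜).Opens := CechLib.cap (U 𝒜 g) (ULift.up ∘ J)

theorem mem_capU {p : ℕ} (J : Fin p → Fin r) (x : Proj 𝒜) :
    x ∈ capU 𝒜 g J ↔ x ∈ Proj.basicOpen 𝒜 (fT g J) := by
  constructor
  · intro h
    refine fun hx => ?_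
    obtain ⟨a, ha, hax⟩ := (Ideal.IsPrime.prod_mem_iff (hp := x.isPrime)).mp hx
    obtain ⟨k, rfl⟩ := mem_img.mp ha
    exact (CechLib.cap_le (U 𝒜 g) (ULift.up ∘ J) k h) hax
  · intro h
    refine ((CechLib.le_cap_iff (U := U 𝒜 g) (W := Proj.basicOpen 𝒜 (fT g J))).mpr fun k => ?_) h
    intro y hy hk
    exact hy ((Ideal.IsPrime.prod_mem_iff (hp := y.isPrime)).mpr ⟨J k, mem_img.mpr ⟨k, rfl⟩, hk⟩)

theorem capU_eq {p : ℕ} (J : Fin p → Fin r) : capU 𝒜 g J = Proj.basicOpen 𝒜 (fT g J) :=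
  Opens.ext (Set.ext fun x => mem_capU J x)

theorem pow_fT_nin {p : ℕ} {J : Fin p → Fin r} (x : capU 𝒜 g J) (k : ℕ) :
    fT g J ^ k ∉ x.1.asHomogeneousIdeal :=
  GrTildeLib.pow_nin (⟨x.1, (mem_capU J x.1).mp x.2⟩ : Proj.basicOpen 𝒜 (fT g J)) k

variable (ℳ : ℕ → Submodule R M) [DirectSum.Decomposition ℳ] [SetLike.GradedSMul 𝒜 ℳ]

variable (dg) in
/-- `y` is one fraction representing the section `t`. -/
def Rep (n : ℤ) {p : ℕ} (J : Fin p → Fin r)
    (t : Γ(GrTilde.tilde 𝒜 ℳ n, capU 𝒜 g J)) (y : Q M g J) : Prop :=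
  ∃ (k i : ℕ) (m : M), m ∈ ℳ i ∧ (i : ℤ) = k * dT dg J + n ∧ ψQ g k J m = y ∧
    ∀ x, GrTildeLib.val t x = LocalizedModule.mk m ⟨fT g J ^ k, pow_fT_nin x k⟩

include hd hg in
theorem exists_rep (n : ℤ) {p : ℕ} (J : Fin (p + 1) → Fin r)
    (t : Γ(GrTilde.tilde 𝒜 ℳ n, capU 𝒜 g J)) : ∃ y, Rep dg ℳ n J t y := by
  obtain ⟨k, i, m, hm, hi, h⟩ := GrTildeLib.exists_eq_frac (dT_pos hd J) (fT_mem hg J)
    ((GrTilde.tilde 𝒜 ℳ n).presheaf.map (homOfLE (capU_eq J).ge).op t)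
  exact ⟨_, k, i, m, hm, hi, rfl, fun x => h ⟨x.1, (mem_capU J x.1).mp x.2⟩⟩

variable {ℳ}

include hg in
theorem Rep.raise {n : ℤ} {p : ℕ} {J : Fin p → Fin r}
    {t : Γ(GrTilde.tilde 𝒜 ℳ n, capU 𝒜 g J)} {y : Q M g J} (h : Rep dg ℳ n J t y) :
    ∃ k₀ : ℕ, ∀ k, k₀ ≤ k → ∃ (i : ℕ) (m : M), m ∈ ℳ i ∧ (i : ℤ) = k * dT dg J + n ∧
      ψQ g k J m = y ∧ ∀ x, GrTildeLib.val t x = LocalizedModule.mk m ⟨fT g J ^ k, pow_fT_nin x k⟩ := by
  obtain ⟨k, i, m, hm, hi, hy, hv⟩ := h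
  refine ⟨k, fun k' hk => ?_⟩
  obtain ⟨l, rfl⟩ := Nat.exists_eq_add_of_le hk
  refine ⟨l * dT dg J + i, fT g J ^ l • m, ?_, by rw [Nat.cast_add, Nat.cast_mul, hi, Nat.cast_add, add_mul]; ring,
    (ψQ_trans g J k l m).trans hy, fun x => (hv x).trans (GrTildeLib.mk_congr ?_)⟩
  · have := SetLike.pow_mem_graded l (fT_mem (𝒜 := 𝒜) hg J)
    exact SetLike.GradedSMul.smul_mem (B := ℳ) (by simpa using this) hm
  · change fT g J ^ (k + l) • m = fT g J ^ k • fT g J ^ l • m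
    rw [pow_add, mul_smul]

include hd hg in
theorem Rep.unique {n : ℤ} {p : ℕ} {J : Fin (p + 1) → Fin r}
    {t : Γ(GrTilde.tilde 𝒜 ℳ n, capU 𝒜 g J)} {y y' : Q M g J}
    (h : Rep dg ℳ n J t y) (h' : Rep dg ℳ n J t y') : y = y' := by
  obtain ⟨k₁, h1⟩ := h.raise hg
  obtain ⟨k₂, h2⟩ := h'.raise hg
  obtain ⟨i, m, hm, hi, rfl, hv⟩ := h1 (max k₁ k₂) (le_max_left _ _)
  obtain ⟨i', m', hm', hi', rfl, hv'⟩ := h2 (max k₁ k₂) (le_max_right _ _)
  have hii : i = i' := by omega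
  subst hii
  obtain ⟨N, hN⟩ := GrTildeLib.exists_pow_smul_eq (ℳ := ℳ) (dT_pos hd J) (fT_mem hg J)
    (p := max k₁ k₂ * dT dg J + i) (m := m) (m' := m') (s := fT g J ^ max k₁ k₂) (s' := fT g J ^ max k₁ k₂)
    (SetLike.GradedSMul.smul_mem (B := ℳ) (by simpa using SetLike.pow_mem_graded (max k₁ k₂) (fT_mem (𝒜 := 𝒜) hg J)) hm)
    (SetLike.GradedSMul.smul_mem (B := ℳ) (by simpa using SetLike.pow_mem_graded (max k₁ k₂) (fT_mem (𝒜 := 𝒜) hg J)) hm')
    (fun x hx h => hx (x.isPrime.mem_of_pow_mem _ h)) (fun x hx h => hx (x.isPrime.mem_of_pow_mem _ h))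
    (fun x hx => (hv ⟨x, (mem_capU J x).mpr hx⟩).symm.trans (hv' ⟨x, (mem_capU J x).mpr hx⟩))
  rw [ψQ_apply, ψQ_apply, LocalizedModule.mk_eq]
  exact ⟨pw g J N, hN⟩

include hg in
theorem Rep.add {n : ℤ} {p : ℕ} {J : Fin p → Fin r}
    {t t' : Γ(GrTilde.tilde 𝒜 ℳ n, capU 𝒜 g J)} {y y' : Q M g J}
    (h : Rep dg ℳ n J t y) (h' : Rep dg ℳ n J t' y') : Rep dg ℳ n J (t + t') (y + y') := by
  obtain ⟨k₁, h1⟩ := h.raise hg
  obtain ⟨k₂, h2⟩ := h'.raise hg
  obtain ⟨i, m, hm, hi, rfl, hv⟩ := h1 (max k₁ k₂) (le_max_left _ _)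
  obtain ⟨i', m', hm', hi', rfl, hv'⟩ := h2 (max k₁ k₂) (le_max_right _ _)
  have hii : i = i' := by omega
  subst hii
  refine ⟨_, i, m + m', add_mem hm hm', hi, map_add _ _ _, fun x => ?_⟩
  rw [GrTildeLib.val_add, hv, hv', LocalizedModule.mk_add_mk, ← smul_add,
    LocalizedModule.mk_cancel_common_left]

variable (ℳ)

/-- A section as an element of the localisation. -/
def toLoc (n : ℤ) {p : ℕ} (J : Fin (p + 1) → Fin r) :
    Γ(GrTilde.tilde 𝒜 ℳ n, capU 𝒜 g J) →+ Q M g J :=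
  AddMonoidHom.mk' (fun t => (exists_rep hd hg ℳ n J t).choose) fun t t' =>
    (exists_rep hd hg ℳ n J (t + t')).choose_spec.unique hd hg
      ((exists_rep hd hg ℳ n J t).choose_spec.add hg (exists_rep hd hg ℳ n J t').choose_spec)

theorem rep_toLoc (n : ℤ) {p : ℕ} (J : Fin (p + 1) → Fin r)
    (t : Γ(GrTilde.tilde 𝒜 ℳ n, capU 𝒜 g J)) : Rep dg ℳ n J t (toLoc hd hg ℳ n J t) :=
  (exists_rep hd hg ℳ n J t).choose_spec

theorem toLoc_res (n : ℤ) {p : ℕ} (J : Fin (p + 2) → Fin r) (k : Fin (p + 2))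
    (t : Γ(GrTilde.tilde 𝒜 ℳ n, capU 𝒜 g (J ∘ k.succAbove))) :
    toLoc hd hg ℳ n J (CechLib.rs (GrTilde.tilde 𝒜 ℳ n).presheaf
        (CechLib.cap_comp_le (U 𝒜 g) (ULift.up ∘ J) k.succAbove) t) =
      rsQ g J k (toLoc hd hg ℳ n (J ∘ k.succAbove) t) := by
  refine (rep_toLoc hd hg ℳ n J _).unique hd hg ?_
  obtain ⟨l, i, m, hm, hi, hy, hv⟩ := rep_toLoc hd hg ℳ n (J ∘ k.succAbove) t
  have hW : W g (img J) (img (J ∘ k.succAbove)) ∈ 𝒜 (∑ a ∈ img J \ img (J ∘ k.succAbove), dg a) :=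
    SetLike.prod_mem_graded 𝒜 _ _ fun a _ => hg a
  have hsum : ∑ a ∈ img J \ img (J ∘ k.succAbove), dg a + dT dg (J ∘ k.succAbove) = dT dg J :=
    Finset.sum_sdiff (img_comp_subset J _)
  refine ⟨l, l * (∑ a ∈ img J \ img (J ∘ k.succAbove), dg a) + i,
    W g (img J) (img (J ∘ k.succAbove)) ^ l • m,
    SetLike.GradedSMul.smul_mem (B := ℳ) (by simpa using SetLike.pow_mem_graded l hW) hm, ?_, ?_,
    fun x => (hv ⟨x.1, CechLib.cap_comp_le (U 𝒜 g) (ULift.up ∘ J) k.succAbove x.2⟩).trans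
      (GrTildeLib.mk_congr ?_)⟩
  · rw [← hsum, Nat.cast_add, Nat.cast_add, Nat.cast_mul, hi]; ring
  · rw [← rsQ_ψQ g J k l m, hy]
  · change fT g J ^ l • m = fT g (J ∘ k.succAbove) ^ l • W g (img J) (img (J ∘ k.succAbove)) ^ l • m
    rw [smul_smul, ← mul_pow, fT_eq_W_mul g J k, mul_comm]

include hd hg in
theorem toLoc_bijective {p : ℕ} (J : Fin (p + 1) → Fin r) :
    Function.Bijective (DirectSum.toAddMonoid fun n => toLoc hd hg ℳ n J) := by
  classical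
  constructor
  · rw [injective_iff_map_eq_zero]
    intro x hx
    rw [← DirectSum.sum_support_of x, map_sum] at hx
    simp only [DirectSum.toAddMonoid_of] at hx
    have hr : ∀ n, ∃ k₀ : ℕ, ∀ k, k₀ ≤ k → ∃ (i : ℕ) (m : M), m ∈ ℳ i ∧ (i : ℤ) = k * dT dg J + n ∧
        ψQ g k J m = toLoc hd hg ℳ n J (x n) ∧
        ∀ z, GrTildeLib.val (x n) z = LocalizedModule.mk m ⟨fT g J ^ k, pow_fT_nin z k⟩ :=
      fun n => (rep_toLoc hd hg ℳ n J (x n)).raise hg
    choose k₀ hk₀ using hr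
    let K : ℕ := x.support.sup k₀
    have hr' : ∀ n : x.support, ∃ (i : ℕ) (m : M), m ∈ ℳ i ∧ (i : ℤ) = K * dT dg J + n.1 ∧
        ψQ g K J m = toLoc hd hg ℳ n.1 J (x n.1) ∧
        ∀ z, GrTildeLib.val (x n.1) z = LocalizedModule.mk m ⟨fT g J ^ K, pow_fT_nin z K⟩ :=
      fun n => hk₀ n.1 K (Finset.le_sup n.2)
    choose i m hm hi hy hv using hr'
    have hsum : ψQ g K J (∑ n ∈ x.support.attach, m n) = 0 := by
      rw [map_sum, Finset.sum_congr rfl fun n _ => hy n]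
      exact (Finset.sum_attach x.support fun n => toLoc hd hg ℳ n J (x n)).trans hx
    obtain ⟨N, hN⟩ := ψQ_eq_zero g J K _ hsum
    rw [Finset.smul_sum] at hN
    have hdeg : ∀ n : x.support, fT g J ^ N • m n ∈ ℳ (N * dT dg J + i n) := fun n =>
      SetLike.GradedSMul.smul_mem (B := ℳ) (by simpa using SetLike.pow_mem_graded N (fT_mem (𝒜 := 𝒜) hg J)) (hm n)
    ext n
    by_contra hn
    have hns : n ∈ x.support := DFinsupp.mem_support_iff.mpr hn
    have h0 : fT g J ^ N • m ⟨n, hns⟩ = 0 := by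
      have h1 := congrArg (fun z => (DirectSum.decompose ℳ z (N * dT dg J + i ⟨n, hns⟩) : M)) hN
      simp only [DirectSum.decompose_sum, DirectSum.decompose_zero, DirectSum.sum_apply,
        AddSubmonoidClass.coe_finset_sum, DirectSum.zero_apply, ZeroMemClass.coe_zero] at h1
      rw [Finset.sum_eq_single ⟨n, hns⟩] at h1
      · rwa [DirectSum.decompose_of_mem_same ℳ (hdeg _)] at h1
      · intro b _ hb
        refine DirectSum.decompose_of_mem_ne ℳ (hdeg b) fun e => hb (Subtype.ext ?_)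
        have := hi b
        have := hi ⟨n, hns⟩
        omega
      · exact fun h => absurd (Finset.mem_attach _ _) h
    refine hn (GrTildeLib.sec_ext fun z => ?_)
    rw [hv ⟨n, hns⟩ z]
    refine (GrTildeLib.mk_congr (s' := ⟨fT g J ^ (N + K), pow_fT_nin z _⟩) (m' := fT g J ^ N • m ⟨n, hns⟩) ?_).trans ?_
    · change fT g J ^ (N + K) • m ⟨n, hns⟩ = fT g J ^ K • fT g J ^ N • m ⟨n, hns⟩
      rw [smul_smul, ← pow_add, Nat.add_comm N K]
    · rw [h0, LocalizedModule.zero_mk]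
      rfl
  · intro y
    obtain ⟨k, m, rfl⟩ := ψQ_surj g J y
    rw [← DirectSum.sum_support_decompose ℳ m, map_sum]
    refine AddMonoidHom.mem_range.mp (sum_mem fun i _ => ?_)
    let n : ℤ := (i : ℤ) - k * dT dg J
    let t : Γ(GrTilde.tilde 𝒜 ℳ n, capU 𝒜 g J) :=
      GrTildeLib.fracSec (SetLike.coe_mem (DirectSum.decompose ℳ m i))
        (SetLike.pow_mem_graded k (fT_mem (𝒜 := 𝒜) hg J)) (by simp [n]) (fun x => pow_fT_nin x k)
    refine ⟨DirectSum.of (fun n => Γ(GrTilde.tilde 𝒜 ℳ n, capU 𝒜 g J)) n t, ?_⟩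
    rw [DirectSum.toAddMonoid_of]
    exact (rep_toLoc hd hg ℳ n J t).unique hd hg
      ⟨k, i, _, SetLike.coe_mem (DirectSum.decompose ℳ m i), by simp [n], rfl, fun x => rfl⟩

end KoszProjLib

end
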